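import Cfsg.Agent.Mrg.Omega.OmThm.NoOv
import Cfsg.Agent.Mrg.Omega.FrameI
import Cfsg.Agent.Mrg.Omega.OM.Swap.Two

section


/-!
# No over-offender, module form

The 2-group `E` has to act on `W` as an elementary abelian group only (`FFThm.ElemM W E`). The proofs are those of
`OmThm/NoOv.lean` and `OmThm/Two.lean` (helper404).
-/

set_option autoImplicit false
set_option linter.unusedVariables false

namespace Cfsg.Agent.Omega.OmThm

open Subgroup Cfsg.Agent.ZN Cfsg.Agent.Omega.FFBr Cfsg.Agent.Omega.NoFF.Basic Cfsg.Agent.MinSimple.VModule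
open Cfsg.Agent.MinSimple.MinParabolic (IsMin IsMinPar)
open Cfsg.Agent.ClassTwoFusion.Quad (cv mem_cv)
open Cfsg.Agent.Omega.FFThm (ElemM)
open scoped Pointwise commutatorElement

universe u

/-- No over-offender in the noncentral sections of `W`, module form. -/
def NoOvM {G : Type*} [Group G] (X W : Subgroup G) : Prop :=
  ∀ A C K E : Subgroup G, A ≤ K → K ≤ C → C ≤ W → X ≤ normalizer (A : Set G) → X ≤ normalizer (C : Set G) →
    (∃ c ∈ C, ∃ x ∈ oddGen X, c * x * c⁻¹ * x⁻¹ ∉ A) → E ≤ X → IsPGroup 2 E → ElemM W E →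
    (∀ b ∈ K, ∀ e ∈ E, b * e * b⁻¹ * e⁻¹ ∈ A) → (o2 X).relIndex E ≤ K.relIndex C

section abs

variable {X V : Type u} [Group X] [Finite X] [Group V] [Finite V]

/-- **No over-offender for an irreducible action of a minimal parabolic.** -/
theorem noOver_of_irr' (φ : X →* MulAut V) (hcomm : ∀ v w : V, v * w = w * v) (hsq : ∀ v : V, v * v = 1)
    (T : Sylow 2 X) (M : Subgroup X) (hM : IsMin (T : Subgroup X) M) (hTM : (T : Subgroup X) ≤ M)
    (irr : ∀ U : Subgroup V, (∀ x : X, ∀ u ∈ U, φ x u ∈ U) → U = ⊥ ∨ U = ⊤)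
    (nt : ∃ x : X, Odd (orderOf x) ∧ φ x ≠ 1) (E : Subgroup X) (hEp : IsPGroup 2 E)
    (hE : ∀ a ∈ E, ∀ b ∈ E, φ (a * b) = φ (b * a)) (hE2 : ∀ a ∈ E, φ (a * a) = 1) : (pCore 2 X).relIndex E ≤ (fixV φ E).index := by
  classical
  have f2 : Fact (Nat.Prime 2) := ⟨Nat.prime_two⟩
  obtain ⟨x₀, hx₀, hφ₀⟩ := nt
  obtain ⟨v₀, hv₀⟩ : ∃ v : V, φ x₀ v ≠ v := by
    by_contra hcon
    push Not at hcon
    exact hφ₀ (MulEquiv.ext hcon)
  have hVne : ∃ v : V, v ≠ 1 := ⟨v₀, fun h => hv₀ (by rw [h, map_one])⟩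
  -- the image
  set Y : Subgroup (MulAut V) := φ.range with hY
  let r : X →* Y := φ.rangeRestrict
  have hr : Function.Surjective r := φ.rangeRestrict_surjective
  have hsm : ∀ (x : X) (v : V), (r x • v : V) = φ x v := fun x v => rfl
  have hrk : ∀ x, r x = 1 ↔ φ x = 1 := fun x => by
    rw [← MonoidHom.mem_ker, ← MonoidHom.mem_ker, MonoidHom.ker_rangeRestrict]
  have irrY : ∀ U : Subgroup V, (∀ y : Y, ∀ u ∈ U, (y • u : V) ∈ U) → U = ⊥ ∨ U = ⊤ := by
    intro U hU
    exact irr U fun x u hu => hU (r x) u hu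
  -- `N T ≠ X` for `N = C_X(V)`
  have hker : r.ker ⊔ (T : Subgroup X) ≠ ⊤ := by
    intro h
    apply hφ₀
    rw [← hrk]
    have h1 : r x₀ ∈ (T : Subgroup X).map r := by
      have h2 : x₀ ∈ r.ker ⊔ (T : Subgroup X) := h ▸ mem_top x₀
      have h3 := mem_map_of_mem r h2
      rw [Subgroup.map_sup] at h3
      have h4 : r.ker.map r = ⊥ := (Subgroup.map_eq_bot_iff _).2 le_rfl
      rwa [h4, bot_sup_eq] at h3
    obtain ⟨k, hk⟩ := (T.isPGroup'.map r) ⟨r x₀, h1⟩
    have hk' : (r x₀) ^ 2 ^ k = 1 := by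
      have := congrArg Subtype.val hk
      simpa using this
    have h5 : orderOf (r x₀) ∣ 2 ^ k := orderOf_dvd_of_pow_eq_one hk'
    have h6 : orderOf (r x₀) ∣ orderOf x₀ := orderOf_map_dvd r x₀
    have h7 : Nat.Coprime (orderOf x₀) (2 ^ k) := Nat.Coprime.pow_right k (Nat.coprime_two_right.2 hx₀)
    exact orderOf_eq_one_iff.1 (Nat.dvd_one.1 (h7 ▸ Nat.dvd_gcd h6 h5))
  have hkerM : r.ker ≤ M := le_sup_left.trans (hM.le_of _ le_sup_right hker)
  -- the abstract situation
  have hAbs : Abs Y V (T.mapSurjective hr) (M.map r) := by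
    refine ⟨hcomm, hsq, fun y hy => ?_, fun N hN hN2 => ?_, ?_, ?_, fun K hK => ?_, fun W hW => ?_, ?_⟩
    · exact Subtype.ext (MulEquiv.ext hy)
    · -- `O₂(Y) = 1`
      obtain ⟨v, hv1, hv⟩ := exists_fixed_ne (Y := N) hN2 hsq hVne
      have h1 : cv V (N : Set Y) = ⊥ ∨ cv V (N : Set Y) = ⊤ := by
        refine irrY _ fun y u hu => ?_
        rw [mem_cv] at hu ⊢
        intro a ha
        have h2 : y⁻¹ * a * y ∈ N := by
          have := hN.conj_mem a ha y⁻¹
          rwa [inv_inv] at this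
        have h3 := hu _ h2
        calc a • y • u = y • (y⁻¹ * a * y) • u := by rw [← mul_smul, ← mul_smul]; congr 1; group
          _ = y • u := by rw [h3]
      rcases h1 with h1 | h1
      · exfalso
        apply hv1
        rw [← mem_bot, ← h1, mem_cv]
        exact fun a ha => hv ⟨a, ha⟩
      · rw [eq_bot_iff]
        intro a ha
        rw [mem_bot]
        apply Subtype.ext
        apply MulEquiv.ext
        intro w
        have h2 : w ∈ cv V (N : Set Y) := h1 ▸ mem_top w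
        exact h2 a ha
    · exact Subgroup.map_mono hTM
    · intro h
      apply hM.ne_top
      rw [eq_top_iff]
      have h1 := congrArg (Subgroup.comap r) h
      rw [Subgroup.comap_map_eq, Subgroup.comap_top, sup_eq_left.2 hkerM] at h1
      exact h1.ge
    · by_cases h : K.comap r = ⊤
      · right
        rw [← Subgroup.map_comap_eq_self_of_surjective hr K, h]
        exact Subgroup.map_top_of_surjective r hr
      · left
        have h1 : (T : Subgroup X) ≤ K.comap r := by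
          rw [← Subgroup.map_le_iff_le_comap]
          exact hK
        have h2 := hM.le_of _ h1 h
        rw [← Subgroup.map_comap_eq_self_of_surjective hr K]
        exact Subgroup.map_mono h2
    · -- generation
      let U : Subgroup V := closure {w | ∃ v : V, (∀ t ∈ (T.mapSurjective hr : Subgroup Y), t • v = v) ∧
        ∃ y : Y, w = y • v}
      have hUW : U ≤ W := by
        rw [closure_le]
        rintro _ ⟨v, hv, y, rfl⟩
        exact hW v hv y
      have hT2 : IsPGroup 2 (T.mapSurjective hr : Subgroup Y) := (T.mapSurjective hr).isPGroup'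
      obtain ⟨v, hv1, hv⟩ := exists_fixed_ne (Y := (T.mapSurjective hr : Subgroup Y)) hT2 hsq hVne
      have hU : U = ⊥ ∨ U = ⊤ := by
        refine irrY _ fun y u hu => ?_
        induction hu using closure_induction with
        | mem w hw =>
          obtain ⟨v, hv, z, rfl⟩ := hw
          exact subset_closure ⟨v, hv, y * z, by rw [mul_smul]⟩
        | one => rw [smul_one]; exact one_mem _
        | mul a b _ _ ha hb => rw [smul_mul']; exact mul_mem ha hb
        | inv a _ ha => rw [smul_inv']; exact inv_mem ha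
      rcases hU with hU | hU
      · exfalso
        apply hv1
        rw [← mem_bot, ← hU]
        exact subset_closure ⟨v, fun t ht => hv ⟨t, ht⟩, 1, by rw [one_smul]⟩
      · exact eq_top_iff.2 (hU ▸ hUW)
    · -- not fixed
      by_contra hcon
      push Not at hcon
      have hT2 : IsPGroup 2 (T.mapSurjective hr : Subgroup Y) := (T.mapSurjective hr).isPGroup'
      obtain ⟨v, hv1, hv⟩ := exists_fixed_ne (Y := (T.mapSurjective hr : Subgroup Y)) hT2 hsq hVne
      have hvY : ∀ y : Y, y • v = v := hcon v fun t ht => hv ⟨t, ht⟩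
      have h1 : cv V (Set.univ : Set Y) = ⊥ ∨ cv V (Set.univ : Set Y) = ⊤ := by
        refine irrY _ fun y u hu => ?_
        rw [mem_cv] at hu ⊢
        intro a _
        rw [hu y (Set.mem_univ _), hu a (Set.mem_univ _)]
      rcases h1 with h1 | h1
      · apply hv1
        rw [← mem_bot, ← h1, mem_cv]
        exact fun a _ => hvY a
      · apply hv₀
        have h2 : v₀ ∈ cv V (Set.univ : Set Y) := h1 ▸ mem_top v₀
        exact h2 (r x₀) (Set.mem_univ _)
  -- no over-offender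
  have hno : ANoOver Y V := by
    by_cases ho : ∃ A : Subgroup Y, AOff V A
    · exact (aStmt Y V _ _ hAbs ho).1
    · intro A hA hA2
      by_contra hlt
      push Not at hlt
      refine ho ⟨A, hA, hA2, ?_, hlt.le⟩
      rintro rfl
      rw [Subgroup.card_bot] at hlt
      have := Nat.pos_of_ne_zero (Subgroup.index_ne_zero_of_finite (H := cv V ((⊥ : Subgroup Y) : Set Y)))
      omega
  have h1 := hno (E.map r) (by
    rintro _ ⟨a, ha, rfl⟩ _ ⟨b, hb, rfl⟩
    rw [← map_mul, ← map_mul]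
    exact Subtype.ext (hE a ha b hb)) (by
    rintro _ ⟨a, ha, rfl⟩
    rw [← map_mul]
    exact Subtype.ext (hE2 a ha))
  have h2 : cv V ((E.map r : Subgroup Y) : Set Y) = fixV φ E := by
    ext v
    rw [mem_cv, mem_fixV]
    constructor
    · intro h e he
      exact h (r e) ⟨e, he, rfl⟩
    · rintro h _ ⟨e, he, rfl⟩
      exact h e he
  rw [h2] at h1
  refine le_trans ?_ h1
  -- `E ∩ C_X(V) ≤ O₂(X)`
  have hE2' : IsPGroup 2 E := hEp
  have hTk : (T : Subgroup X) ⊓ r.ker ≤ pCore 2 X :=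
    (MinSimple.MinParabolic.sup_eq_top_or_inf_le hM r.ker).resolve_left hker
  have hEk : E ⊓ r.ker ≤ pCore 2 X := by
    obtain ⟨Q, hQ⟩ := hE2'.exists_le_sylow
    obtain ⟨g, hg⟩ := MulAction.exists_smul_eq X T Q
    rintro e ⟨he, hek⟩
    have h3 : e ∈ (Q : Subgroup X) := hQ he
    rw [← hg, Sylow.coe_subgroup_smul, mem_pointwise_smul_iff_inv_smul_mem, MulAut.smul_def, ← map_inv,
      MulAut.conj_apply, inv_inv] at h3
    have h4 : g⁻¹ * e * g ∈ r.ker := by
      have := (inferInstance : r.ker.Normal).conj_mem e hek g⁻¹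
      rwa [inv_inv] at this
    have hn : (pCore 2 X).Normal := Lib.Cores.pCore_normal 2
    have h5 := hn.conj_mem _ (hTk ⟨h3, h4⟩) g
    rwa [show g * (g⁻¹ * e * g) * g⁻¹ = e from by group] at h5
  have h3 : (pCore 2 X).relIndex E ≤ r.ker.relIndex E := by
    rw [← inf_relIndex_left E r.ker]
    exact relIndex_le_of_le_left hEk (Subgroup.index_ne_zero_of_finite)
  rw [relIndex_ker] at h3
  exact h3

end abs

section main

variable {G : Type u} [Group G]

/-- **`NoOv`**: no over-offender in the noncentral sections of `W`. -/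
theorem noOvM [Finite G] {T X W : Subgroup G} (hT : ChoiceSit.Syl T X) (hmin : IsMinPar T X)
    (hWc : ∀ x ∈ W, ∀ y ∈ W, x * y = y * x) (hW2 : ∀ x ∈ W, x * x = 1) : NoOvM X W := by
  classical
  intro A C K E hAK hKC hCW hAn hCn hnt hEX hEp hEM hKE
  have f2 : Fact (Nat.Prime 2) := ⟨Nat.prime_two⟩
  have h0 : MPair X A C A C := ⟨le_rfl, hAK.trans hKC, le_rfl, hAn, hCn, exists_odd_of hAn hnt⟩
  obtain ⟨A₁, C₁, h, hm⟩ := exists_min h0
  have hC1W : C₁ ≤ W := h.le3.trans hCW
  -- the Sylow subgroup and the maximal subgroup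
  obtain ⟨M, hM⟩ := hmin.exists_isMin
  have hTp : IsPGroup 2 (T.subgroupOf X) := hT.2.1.comap_of_injective _ X.subtype_injective
  have hM' : IsMin ((hTp.toSylow (ChoiceSit.syl_not_dvd hT) : Sylow 2 X) : Subgroup X) M := hM
  have hTM : (hTp.toSylow (ChoiceSit.syl_not_dvd hT) : Subgroup X) ≤ M := by
    refine hM'.le_of _ le_rfl fun htop => ?_
    apply hmin.not_le
    have h1 : X ≤ T := subgroupOf_eq_top.1 htop
    exact h1.trans le_normalizer
  -- the module
  have hnorm : (A₁.subgroupOf C₁).Normal := by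
    refine ⟨fun n hn g => ?_⟩
    have e : g * n * g⁻¹ = n := Subtype.ext (by
      push_cast
      rw [hWc _ (hC1W g.2) _ (hC1W n.2), mul_inv_cancel_right])
    rwa [e]
  have hmapN : ∀ x : X, (A₁.subgroupOf C₁).map ((act h.n2 x : MulAut C₁).toMonoidHom) = A₁.subgroupOf C₁ := by
    intro x
    ext c
    constructor
    · rintro ⟨d, hd, rfl⟩
      exact (mem_normalizer_iff.1 (h.n1 x.2) _).1 hd
    · intro hc
      refine ⟨⟨(x : G)⁻¹ * c * x, ?_⟩, ?_, ?_⟩
      · have := (mem_normalizer_iff.1 (h.n2 (inv_mem x.2)) _).1 c.2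
        rwa [inv_inv] at this
      · have := (mem_normalizer_iff.1 (h.n1 (inv_mem x.2)) _).1 hc
        rw [inv_inv] at this
        exact this
      · apply Subtype.ext
        change (x : G) * ((x : G)⁻¹ * c * x) * (x : G)⁻¹ = c
        group
  let φ : X →* MulAut (C₁ ⧸ A₁.subgroupOf C₁) := qAct (act h.n2) (A₁.subgroupOf C₁) hmapN
  have hφ : ∀ (x : X) (c : C₁), φ x (c : C₁ ⧸ A₁.subgroupOf C₁) = ((act h.n2 x c : C₁) : C₁ ⧸ A₁.subgroupOf C₁) :=
    fun x c => rfl
  have hcomm : ∀ v w : C₁ ⧸ A₁.subgroupOf C₁, v * w = w * v := by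
    intro v w
    induction v using QuotientGroup.induction_on with
    | H v =>
      induction w using QuotientGroup.induction_on with
      | H w =>
        rw [← QuotientGroup.mk_mul, ← QuotientGroup.mk_mul]
        congr 1
        exact Subtype.ext (hWc _ (hC1W v.2) _ (hC1W w.2))
  have hsq : ∀ v : C₁ ⧸ A₁.subgroupOf C₁, v * v = 1 := by
    intro v
    induction v using QuotientGroup.induction_on with
    | H v =>
      rw [← QuotientGroup.mk_mul]
      have : v * v = 1 := Subtype.ext (hW2 _ (hC1W v.2))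
      rw [this]
      rfl
  have hirr : ∀ U : Subgroup (C₁ ⧸ A₁.subgroupOf C₁), (∀ x : X, ∀ u ∈ U, φ x u ∈ U) → U = ⊥ ∨ U = ⊤ := by
    intro U hU
    set B : Subgroup G := (U.comap (QuotientGroup.mk' (A₁.subgroupOf C₁))).map C₁.subtype with hB
    have hBmem : ∀ c : C₁, (c : G) ∈ B ↔ (c : C₁ ⧸ A₁.subgroupOf C₁) ∈ U := by
      intro c
      constructor
      · rintro ⟨d, hd, hdc⟩
        have : d = c := Subtype.ext hdc
        rw [← this]
        exact hd
      · intro hc
        exact ⟨c, hc, rfl⟩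
    have hBC : B ≤ C₁ := map_subtype_le _
    have hAB : A₁ ≤ B := by
      intro a ha
      have haC := h.le2 ha
      have : ((⟨a, haC⟩ : C₁) : C₁ ⧸ A₁.subgroupOf C₁) = 1 := (QuotientGroup.eq_one_iff _).2 ha
      exact (hBmem ⟨a, haC⟩).2 (this ▸ one_mem U)
    have hBn : X ≤ normalizer (B : Set G) := by
      have key : ∀ x ∈ X, ∀ b ∈ B, x * b * x⁻¹ ∈ B := by
        intro x hx b hb
        have hbC := hBC hb
        have h1 := (hBmem ⟨b, hbC⟩).1 hb
        have h2 := hU ⟨x, hx⟩ _ h1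
        rw [hφ] at h2
        exact (hBmem _).2 h2
      intro x hx
      rw [mem_normalizer_iff]
      intro b
      refine ⟨key x hx b, fun hb => ?_⟩
      have := key x⁻¹ (inv_mem hx) _ hb
      rwa [show x⁻¹ * (x * b * x⁻¹) * x⁻¹⁻¹ = b from by group] at this
    rcases irr_of_min hW2 hCW h hm hAB hBC hBn with h1 | h1
    · left
      rw [eq_bot_iff]
      intro v hv
      obtain ⟨v, rfl⟩ := QuotientGroup.mk_surjective v
      have h2 := (hBmem v).2 hv
      rw [h1] at h2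
      exact (QuotientGroup.eq_one_iff v).2 h2
    · right
      rw [eq_top_iff]
      intro v _
      obtain ⟨v, rfl⟩ := QuotientGroup.mk_surjective v
      exact (hBmem v).1 (h1.symm ▸ v.2)
  have hnt' : ∃ x : X, Odd (orderOf x) ∧ φ x ≠ 1 := by
    obtain ⟨x, hx, hodd, c, hc, hcx⟩ := h.nt
    refine ⟨⟨x, hx⟩, by rwa [orderOf_mk], fun h1 => hcx ?_⟩
    have h2 : φ ⟨x, hx⟩ ((⟨c, hc⟩ : C₁) : C₁ ⧸ A₁.subgroupOf C₁) = ((⟨c, hc⟩ : C₁) : C₁ ⧸ A₁.subgroupOf C₁) := by
      rw [h1]; rfl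
    rw [hφ, QuotientGroup.eq] at h2
    have h3 : (x * c * x⁻¹)⁻¹ * c ∈ A₁ := h2
    have e : c * x * c⁻¹ * x⁻¹ = (x * c * x⁻¹)⁻¹ * c := by
      have h4 : (x * c * x⁻¹)⁻¹ ∈ W := inv_mem (hC1W ((mem_normalizer_iff.1 (h.n2 hx) c).1 hc))
      rw [hWc _ h4 _ (hC1W hc)]
      group
    rwa [e]
  have hEw : ∀ a ∈ E, ∀ b ∈ E, ∀ w ∈ W, (a * b) * w * (a * b)⁻¹ = (b * a) * w * (b * a)⁻¹ := by
    intro a ha b hb w hw
    have h1 := mem_centralizer_iff.1 (hEM.comm a⁻¹ (inv_mem ha) b⁻¹ (inv_mem hb)) w hw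
    rw [inv_inv, inv_inv] at h1
    -- `w (a⁻¹ b⁻¹ a b) = (a⁻¹ b⁻¹ a b) w`
    calc (a * b) * w * (a * b)⁻¹ = (b * a) * ((a⁻¹ * b⁻¹ * a * b) * w) * b⁻¹ * a⁻¹ := by group
      _ = (b * a) * (w * (a⁻¹ * b⁻¹ * a * b)) * b⁻¹ * a⁻¹ := by rw [h1]
      _ = (b * a) * w * (b * a)⁻¹ := by group
  have hEs : ∀ a ∈ E, ∀ w ∈ W, (a * a) * w * (a * a)⁻¹ = w := by
    intro a ha w hw
    have h1 := mem_centralizer_iff.1 (hEM.sq a ha) w hw
    rw [pow_two] at h1
    rw [← h1, mul_inv_cancel_right]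
  have hmain := noOver_of_irr' φ hcomm hsq _ M hM' hTM hirr hnt' (E.subgroupOf X)
    (hEp.comap_of_injective _ X.subtype_injective)
    (fun a ha b hb => by
      apply MulEquiv.ext
      intro v
      induction v using QuotientGroup.induction_on with
      | H v =>
        rw [hφ, hφ]
        congr 1
        exact Subtype.ext (hEw _ ha _ hb _ (hC1W v.2)))
    (fun a ha => by
      apply MulEquiv.ext
      intro v
      induction v using QuotientGroup.induction_on with
      | H v =>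
        rw [hφ, MulAut.one_apply]
        congr 1
        exact Subtype.ext (hEs _ ha _ (hC1W v.2)))
  -- left side
  have hl : (pCore 2 X).relIndex (E.subgroupOf X) = (o2 X).relIndex E := by
    have h1 : (o2 X).subgroupOf X = pCore 2 X :=
      comap_map_eq_self_of_injective X.subtype_injective _
    rw [← h1]
    exact relIndex_subgroupOf hEX
  rw [hl] at hmain
  refine hmain.trans ?_
  -- right side
  have h1 : (K.subgroupOf C₁).map (QuotientGroup.mk' (A₁.subgroupOf C₁)) ≤ fixV φ (E.subgroupOf X) := by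
    rintro _ ⟨b, hb, rfl⟩
    rw [mem_fixV]
    intro e he
    change φ e (b : C₁ ⧸ A₁.subgroupOf C₁) = (b : C₁ ⧸ A₁.subgroupOf C₁)
    rw [hφ, QuotientGroup.eq]
    have h2 : (b : G) * e * (b : G)⁻¹ * (e : G)⁻¹ ∈ A₁ := h.le1 (hKE _ hb _ he)
    change ((e : G) * b * (e : G)⁻¹)⁻¹ * b ∈ A₁
    have h4 : ((e : G) * b * (e : G)⁻¹)⁻¹ ∈ W := inv_mem (hC1W ((mem_normalizer_iff.1 (h.n2 e.2) _).1 b.2))
    rw [hWc _ h4 _ (hC1W b.2)]
    have e3 : (b : G) * ((e : G) * b * (e : G)⁻¹)⁻¹ = (b : G) * e * (b : G)⁻¹ * (e : G)⁻¹ := by group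
    rwa [e3]
  have hne : ∀ (H : Subgroup (C₁ ⧸ A₁.subgroupOf C₁)), H.index ≠ 0 := fun H => Subgroup.index_ne_zero_of_finite
  calc (fixV φ (E.subgroupOf X)).index
      ≤ ((K.subgroupOf C₁).map (QuotientGroup.mk' (A₁.subgroupOf C₁))).index := by
        have := relIndex_le_of_le_left (L := ⊤) h1 (by rw [relIndex_top_right]; exact hne _)
        rwa [relIndex_top_right, relIndex_top_right] at this
    _ ≤ (K.subgroupOf C₁).index := by
        have h3 := Subgroup.index_map_dvd (K.subgroupOf C₁) (QuotientGroup.mk'_surjective (A₁.subgroupOf C₁))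
        exact Nat.le_of_dvd (Nat.pos_of_ne_zero Subgroup.index_ne_zero_of_finite) h3
    _ = K.relIndex C₁ := rfl
    _ ≤ K.relIndex C := relIndex_le_of_le_right h.le3 Subgroup.index_ne_zero_of_finite

end main

section

variable {G : Type*} [Group G] {S X U : Subgroup G}

/-- **(3.a)** If `O²(X)` does not centralise `[W, Q]`, then `|E : E ∩ Q|² ≤ |W : C_W(E)|`. -/
theorem XD.sq_leM [Finite G] (D : XD S X U) (hno : NoOvM X (V U X)) (h2 : ∃ c ∈ (⁅V U X, o2 X⁆ : Subgroup G), ∃ x ∈ oddGen X, c * x ≠ x * c)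
    {E : Subgroup G} (hEX : E ≤ X) (hEp : IsPGroup 2 E) (hEM : ElemM (V U X) E) :
    (o2 X).relIndex E * (o2 X).relIndex E ≤ (centralizer (E : Set G)).relIndex (V U X) := by
  set W := V U X with hW
  set N : Subgroup G := ⁅W, o2 X⁆ with hN
  have hNW : N ≤ W := D.comm_le_W
  set C : Subgroup G := centralizer (E : Set G) ⊓ W with hC
  have hCW : C ≤ W := inf_le_right
  have hCE : ∀ b ∈ C, ∀ e ∈ E, b * e * b⁻¹ * e⁻¹ = 1 := by
    intro b hb e he
    have := mem_centralizer_iff.1 hb.1 e he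
    rw [← this]; group
  have e1 : (o2 X).relIndex E ≤ (C ⊔ N).relIndex W := by
    refine hno N W (C ⊔ N) E le_sup_right (sup_le hCW hNW) le_rfl XD.X_le_normalizer_comm XD.X_le_normalizer_W D.one
      hEX hEp hEM ?_
    intro b hb e he
    have hb' : b ∈ ((C ⊔ N : Subgroup G) : Set G) := hb
    rw [coe_mul_of_left_le_normalizer_right C N (fun c hc => by
      rw [mem_normalizer_iff_conj_image_eq]
      ext y
      constructor
      · rintro ⟨z, hz, rfl⟩
        have h3 : MulAut.conj c z = z := by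
          rw [MulAut.conj_apply, D.comm c (hCW hc) z (hNW hz), mul_inv_cancel_right]
        rw [h3]; exact hz
      · intro hy
        refine ⟨y, hy, ?_⟩
        rw [MulAut.conj_apply, D.comm c (hCW hc) y (hNW hy), mul_inv_cancel_right])] at hb'
    obtain ⟨c, hc, n, hn, rfl⟩ := Set.mem_mul.1 hb'
    have h3 : n * e * n⁻¹ * e⁻¹ ∈ N := by
      have : n * e * n⁻¹ * e⁻¹ = n * (e * n⁻¹ * e⁻¹) := by group
      rw [this]
      exact mul_mem hn ((mem_normalizer_iff.1 (XD.X_le_normalizer_comm (hEX he)) _).1 (inv_mem hn))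
    have h4 : c * n * e * (c * n)⁻¹ * e⁻¹ = c * (n * e * n⁻¹ * e⁻¹) * c⁻¹ * (c * e * c⁻¹ * e⁻¹) := by
      have h5 : e * c⁻¹ = c⁻¹ * e := by
        have := hCE c⁻¹ (inv_mem hc) e he
        rw [mul_inv_eq_one, mul_inv_eq_iff_eq_mul] at this
        exact this.symm
      have h6 : c * e * c⁻¹ * e⁻¹ = 1 := hCE c hc e he
      rw [h6, mul_one]
      calc c * n * e * (c * n)⁻¹ * e⁻¹ = c * n * e * n⁻¹ * (e⁻¹ * (e * c⁻¹)) * e⁻¹ := by group
        _ = c * n * e * n⁻¹ * (e⁻¹ * (c⁻¹ * e)) * e⁻¹ := by rw [h5]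
        _ = c * n * e * n⁻¹ * e⁻¹ * c⁻¹ := by group
        _ = c * (n * e * n⁻¹ * e⁻¹) * c⁻¹ := by group
    rw [h4, hCE c hc e he, mul_one, D.comm c (hCW hc) _ (hNW h3), mul_inv_cancel_right]
    exact h3
  have e2 : (o2 X).relIndex E ≤ C.relIndex N := by
    have h3 : C.relIndex N = (C ⊓ N).relIndex N := (inf_relIndex_right ..).symm
    rw [h3]
    refine hno ⊥ N (C ⊓ N) E bot_le inf_le_right hNW (fun x _ => by
        rw [mem_normalizer_iff]; intro y; simp [mem_bot]) XD.X_le_normalizer_comm ?_ hEX hEp hEM ?_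
    · obtain ⟨c, hc, x, hx, hne⟩ := h2
      refine ⟨c, hc, x, hx, fun h4 => hne ?_⟩
      rw [mem_bot, mul_inv_eq_one, mul_inv_eq_iff_eq_mul] at h4
      exact h4
    · intro b hb e he
      rw [mem_bot]
      exact hCE b hb.1 e he
  have e3 : C.relIndex W = C.relIndex (C ⊔ N) * (C ⊔ N).relIndex W :=
    (relIndex_mul_relIndex C (C ⊔ N) W le_sup_left (sup_le hCW hNW)).symm
  have e4 : C.relIndex N ≤ C.relIndex (C ⊔ N) := relIndex_le_of_le_right le_sup_right (relIndex_ne _ _)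
  have e5 : (centralizer (E : Set G)).relIndex W = C.relIndex W := (inf_relIndex_right ..).symm
  rw [e5, e3]
  exact Nat.mul_le_mul (e2.trans e4) e1

end

end Cfsg.Agent.Omega.OmThm

end

section


/-!
# THEOREM SW over a family of best offenders: the family

`Fm F Λ 𝓐` : the properties of `𝓐` which are used. Instances: `fm_AA` (`𝓐 = 𝒜(F)`), `fm_best` (the best offenders of `F`
on `X ≥ Λ`).
-/

set_option autoImplicit false

namespace Cfsg.Agent.Omega.OM.Swap.Fam

open Subgroup Cfsg Cfsg.Agent.ZN Cfsg.Agent.ZN.ChoiceBase Cfsg.Agent.ZN.ChoiceSit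
open Cfsg.Agent.Omega.OM.Swap
open Cfsg.Agent.Omega.FFThm (ElemM)
open Cfsg.Agent.Omega.NO1.BestOff (Best)
open scoped Pointwise commutatorElement

universe u

variable {G : Type u} [Group G] {F A Λ X U : Subgroup G} {𝓐 : Set (Subgroup G)}

/-- A family of best offenders on `Λ` in `F`. -/
structure Fm (F Λ : Subgroup G) (𝓐 : Set (Subgroup G)) : Prop where
  le : ∀ A ∈ 𝓐, A ≤ F
  two : ∀ A ∈ 𝓐, IsPGroup 2 A
  conj : ∀ f ∈ F, ∀ A ∈ 𝓐, cj f A ∈ 𝓐
  elem : ∀ A ∈ 𝓐, ElemM Λ A
  off : ∀ A ∈ 𝓐, ∀ U : Subgroup G, U ≤ Λ → (centralizer (A : Set G)).relIndex U ≤ (centralizer (U : Set G)).relIndex A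
  rep : ∀ A ∈ 𝓐, ∀ U : Subgroup G, U ≤ Λ → ∃ B' ∈ 𝓐, A ⊓ centralizer ((⁅U, A⁆ : Subgroup G) : Set G) ≤ B' ∧
    B' ≤ (A ⊓ centralizer ((⁅U, A⁆ : Subgroup G) : Set G)) ⊔ Λ ∧
    Λ ⊓ centralizer ((A ⊓ centralizer ((⁅U, A⁆ : Subgroup G) : Set G) : Subgroup G) : Set G) =
      ⁅U, A⁆ ⊔ (Λ ⊓ centralizer (A : Set G))

theorem comm_le (hAΛ : A ≤ normalizer (Λ : Set G)) (hU : U ≤ Λ) : ⁅U, A⁆ ≤ Λ :=
  (commutator_mono hU le_rfl).trans (Cfsg.Agent.Lib.CoprimeCommutator.commutator_le_left hAΛ)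

namespace Fm

variable [Finite G] (h : Fm F Λ 𝓐) (hΛ : IsElementaryAbelian 2 Λ)
include h hΛ

theorem cent (hA : A ∈ 𝓐) (hU : U ≤ Λ)
    (hc : ∀ b ∈ A ⊓ centralizer ((⁅U, A⁆ : Subgroup G) : Set G), ∀ u ∈ U, b * u = u * b) :
    U ≤ centralizer (A : Set G) := by
  obtain ⟨-, -, -, -, h1⟩ := h.rep A hA U hU
  set B : Subgroup G := A ⊓ centralizer ((⁅U, A⁆ : Subgroup G) : Set G) with hB
  set C : Subgroup G := Λ ⊓ centralizer (A : Set G) with hC
  set W : Subgroup G := ⁅U, A⁆ ⊔ C with hW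
  have hUW : U ≤ W := by
    rw [← h1]
    exact fun u hu => ⟨hU hu, mem_centralizer_iff.2 fun b hb => hc b hb u hu⟩
  have hWΛ : W ≤ Λ := by rw [← h1]; exact inf_le_left
  have hAC : A ≤ normalizer (C : Set G) := by
    intro a ha
    rw [mem_normalizer_iff]
    have key : ∀ a ∈ A, ∀ x ∈ C, a * x * a⁻¹ ∈ C := by
      intro a ha x hx
      have : a * x * a⁻¹ = x := by
        rw [mem_centralizer_iff.1 hx.2 a ha, mul_inv_cancel_right]
      rw [this]
      exact hx
    intro x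
    refine ⟨key a ha x, fun h => ?_⟩
    have h3 := key a⁻¹ (inv_mem ha) _ h
    have h4 : a⁻¹ * (a * x * a⁻¹) * a⁻¹⁻¹ = x := by group
    rwa [h4] at h3
  have hAW : A ≤ normalizer (W : Set G) := by
    intro a ha
    have h2 : a ∈ normalizer ((⁅U, A⁆ : Subgroup G) : Set G) :=
      (Cfsg.Agent.Lib.CoprimeCommutator.right_le_normalizer_commutator U A) ha
    have h3 := hAC ha
    rw [mem_normalizer_iff_map_conj_eq] at h2 h3 ⊢
    rw [Subgroup.map_sup, h2, h3]
  have h2 : W ≤ C ⊔ ⁅W, A⁆ := by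
    refine sup_le ?_ le_sup_left
    exact (commutator_mono hUW le_rfl).trans le_sup_right
  have h3 : W ≤ C := NO3b.CTwo.le_of_le_sup_commutator (h.two A hA)
    (fun x hx y hy => elab_comm hΛ x (hWΛ hx) y (hWΛ hy)) (isPGroup_of_elab (elab_mono hΛ hWΛ)) hAW hAC
    le_sup_right h2
  exact (hUW.trans h3).trans inf_le_right

/-- The replacement `B'` has more fixed points. -/
theorem exists_rep (hA : A ∈ 𝓐) (hU : U ≤ Λ) : ∃ B' ∈ 𝓐, A ⊓ centralizer ((⁅U, A⁆ : Subgroup G) : Set G) ≤ B' ∧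
    B' ≤ (A ⊓ centralizer ((⁅U, A⁆ : Subgroup G) : Set G)) ⊔ Λ ∧
    (¬ ⁅U, A⁆ ≤ centralizer (A : Set G) →
      Nat.card ↥(Λ ⊓ centralizer (A : Set G)) < Nat.card ↥(Λ ⊓ centralizer (B' : Set G))) := by
  obtain ⟨B', hB', h1, h2, h3⟩ := h.rep A hA U hU
  refine ⟨B', hB', h1, h2, fun hne => ?_⟩
  set B : Subgroup G := A ⊓ centralizer ((⁅U, A⁆ : Subgroup G) : Set G) with hB
  have hcB : Λ ⊓ centralizer (B : Set G) ≤ Λ ⊓ centralizer (B' : Set G) := by
    refine le_inf inf_le_left ?_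
    rintro x ⟨hx, hx'⟩
    have h4 : B' ≤ centralizer ({x} : Set G) := by
      refine h2.trans (sup_le (fun b hb => ?_) fun l hl => ?_)
      · exact mem_centralizer_singleton_iff.2 (mem_centralizer_iff.1 hx' b hb)
      · exact mem_centralizer_singleton_iff.2 (elab_comm hΛ l hl x hx)
    exact mem_centralizer_iff.2 fun b hb => mem_centralizer_singleton_iff.1 (h4 hb)
  have h4 : Λ ⊓ centralizer (A : Set G) ≤ Λ ⊓ centralizer (B' : Set G) := by
    refine le_trans ?_ hcB
    rw [h3]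
    exact le_sup_right
  have h5 : ⁅U, A⁆ ≤ Λ ⊓ centralizer (B' : Set G) := by
    refine le_trans ?_ hcB
    rw [h3]
    exact le_sup_left
  rcases (Subgroup.card_le_of_le h4).lt_or_eq with h6 | h6
  · exact h6
  · exfalso
    have h7 := eq_of_le_of_card_ge h4 h6.ge
    rw [← h7] at h5
    exact hne (h5.trans inf_le_right)

end Fm

/-- Elements of a member commute on `Λ`. -/
theorem elem_swap (hE : ElemM Λ A) {a b x : G} (ha : a ∈ A) (hb : b ∈ A) (hx : x ∈ Λ) :
    a * (b * x * b⁻¹) * a⁻¹ = b * (a * x * a⁻¹) * b⁻¹ := by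
  have h1 := mem_centralizer_iff.1 (hE.comm a⁻¹ (inv_mem ha) b⁻¹ (inv_mem hb)) x hx
  rw [inv_inv, inv_inv] at h1
  calc a * (b * x * b⁻¹) * a⁻¹ = (b * a) * ((a⁻¹ * b⁻¹ * a * b) * x) * b⁻¹ * a⁻¹ := by group
    _ = (b * a) * (x * (a⁻¹ * b⁻¹ * a * b)) * b⁻¹ * a⁻¹ := by rw [h1]
    _ = _ := by group

theorem elem_two (hE : ElemM Λ A) {a x : G} (ha : a ∈ A) (hx : x ∈ Λ) : a * (a * x * a⁻¹) * a⁻¹ = x := by
  have h1 := mem_centralizer_iff.1 (hE.sq a ha) x hx
  rw [pow_two] at h1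
  calc a * (a * x * a⁻¹) * a⁻¹ = (a * a * x) * a⁻¹ * a⁻¹ := by group
    _ = (x * (a * a)) * a⁻¹ * a⁻¹ := by rw [h1]
    _ = x := by group

/-! ### Instances -/

theorem fm_AA [Finite G] (hΛ : IsElementaryAbelian 2 Λ) (hΛF : Λ ≤ F) (hn : F ≤ normalizer (Λ : Set G)) :
    Fm F Λ (AA F) where
  le := fun A hA => hA.2.1
  two := fun A hA => isPGroup_of_elab hA.1
  conj := fun f hf A hA => AA_cj hf hA
  elem := fun A hA => ⟨fun a ha => by rw [pow_two, elab_sq hA.1 a ha]; exact one_mem _, fun a ha b hb => by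
    have e : a * b * a⁻¹ * b⁻¹ = 1 := by rw [elab_comm hA.1 a ha b hb]; group
    rw [e]; exact one_mem _⟩
  off := fun A hA U hU => relIndex_le hA (elab_mono hΛ hU) (hU.trans hΛF)
  rep := fun A hA U hU => by
    obtain ⟨h1, h2⟩ := Swap.rep hA hΛ hΛF hn hU
    exact ⟨_, h2, le_sup_left, sup_le_sup_left inf_le_left _, h1⟩

/-- The best offenders of `F` on `X`. -/
def BF (F X : Subgroup G) : Set (Subgroup G) := {A | A ≤ F ∧ IsPGroup 2 A ∧ Best X A}

theorem fm_best [Finite G] (hX : IsElementaryAbelian 2 X) (hFX : F ≤ normalizer (X : Set G)) (hΛX : Λ ≤ X)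
    (hn : F ≤ normalizer (Λ : Set G)) : Fm F Λ (BF F X) where
  le := fun A hA => hA.1
  two := fun A hA => hA.2.1
  conj := fun f hf A hA => ⟨by
      have := cj_mono f hA.1
      rwa [cj_self hf] at this, isPGroup_cj f hA.2.1, hA.2.2.conj (hFX hf)⟩
  elem := fun A hA => ⟨fun a ha => centralizer_le hΛX (hA.2.2.sq a ha), fun a ha b hb =>
    centralizer_le hΛX (hA.2.2.comm a ha b hb)⟩
  off := fun A hA U hU => by
    set K : Subgroup G := A ⊓ centralizer (U : Set G) with hK
    set C : Subgroup G := X ⊓ centralizer (A : Set G) with hC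
    have h1 := hA.2.2.max K inf_le_left (inf_le_inf_left _ (centralizer_le (hU.trans hΛX)))
    have hUC : ∀ x ∈ U, ∀ y ∈ C, x * y = y * x := fun x hx y hy => elab_comm hX x (hΛX (hU hx)) y hy.1
    have h2 := card_mul hUC
    have h3 : U ⊔ C ≤ X ⊓ centralizer (K : Set G) := by
      refine sup_le (le_inf (hU.trans hΛX) ?_) (inf_le_inf_left _ (centralizer_le inf_le_left))
      intro x hx
      exact mem_centralizer_iff.2 fun k hk => (mem_centralizer_iff.1 hk.2 x hx).symm
    have h4 : U ⊓ C = U ⊓ centralizer (A : Set G) :=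
      le_antisymm (inf_le_inf_left _ inf_le_right) fun x hx => ⟨hx.1, hΛX (hU hx.1), hx.2⟩
    have h5 : Nat.card ↥(U ⊓ centralizer (A : Set G)) * (centralizer (A : Set G)).relIndex U = Nat.card U := by
      rw [inf_comm, ← inf_relIndex_right]
      exact card_mul_relIndex inf_le_right
    have h6 : Nat.card K * (centralizer (U : Set G)).relIndex A = Nat.card A := by
      rw [hK, inf_comm, ← inf_relIndex_right]
      exact card_mul_relIndex inf_le_right
    have h7 := Subgroup.card_le_of_le h3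
    rw [h4] at h2
    have p1 : 0 < Nat.card K := Nat.card_pos
    have p2 : 0 < Nat.card C := Nat.card_pos
    have p3 : 0 < Nat.card ↥(U ⊓ centralizer (A : Set G)) := Nat.card_pos
    refine Nat.le_of_mul_le_mul_left (c := Nat.card K * Nat.card C * Nat.card ↥(U ⊓ centralizer (A : Set G))) ?_
      (Nat.mul_pos (Nat.mul_pos p1 p2) p3)
    calc Nat.card K * Nat.card C * Nat.card ↥(U ⊓ centralizer (A : Set G)) * (centralizer (A : Set G)).relIndex U
        = Nat.card K * ((Nat.card ↥(U ⊓ centralizer (A : Set G)) * (centralizer (A : Set G)).relIndex U) *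
            Nat.card C) := by ring
      _ = Nat.card K * (Nat.card ↥(U ⊔ C) * Nat.card ↥(U ⊓ centralizer (A : Set G))) := by rw [h5, h2]
      _ = (Nat.card K * Nat.card ↥(U ⊔ C)) * Nat.card ↥(U ⊓ centralizer (A : Set G)) := by ring
      _ ≤ (Nat.card K * Nat.card ↥(X ⊓ centralizer (K : Set G))) * Nat.card ↥(U ⊓ centralizer (A : Set G)) :=
          Nat.mul_le_mul_right _ (Nat.mul_le_mul_left _ h7)
      _ ≤ (Nat.card A * Nat.card C) * Nat.card ↥(U ⊓ centralizer (A : Set G)) := Nat.mul_le_mul_right _ h1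
      _ = ((Nat.card K * (centralizer (U : Set G)).relIndex A) * Nat.card C) *
            Nat.card ↥(U ⊓ centralizer (A : Set G)) := by rw [h6]
      _ = _ := by ring
  rep := fun A hA U hU => by
    have : Fact (Nat.Prime 2) := ⟨Nat.prime_two⟩
    have hAX : A ≤ normalizer (X : Set G) := hA.1.trans hFX
    have hab : ⁅A, A⁆ ≤ centralizer (X : Set G) := by
      rw [commutator_le]
      intro x hx y hy
      exact hA.2.2.comm x hx y hy
    have hUX : U ≤ X := hU.trans hΛX
    have hcX : ⁅U, A⁆ ≤ X := comm_le hAX hUX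
    have hcΛ : ⁅U, A⁆ ≤ Λ := comm_le (hA.1.trans hn) hU
    obtain ⟨B, hBA, h1 | ⟨hB, h1, h2⟩⟩ := Cfsg.Agent.S0598.result (p := 2) X A hX hAX hab U hUX
    · exfalso
      set Y : Subgroup G := B ⊔ (A ⊓ centralizer (X : Set G)) with hY
      have h3 := hA.2.2.max Y (sup_le hBA inf_le_left) le_sup_right
      have h4 : X ⊓ centralizer (B : Set G) ≤ X ⊓ centralizer (Y : Set G) := by
        refine le_inf inf_le_left ?_
        rintro x ⟨hx, hx'⟩
        have h5 : Y ≤ centralizer ({x} : Set G) := by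
          refine sup_le (fun b hb => ?_) fun a ha => ?_
          · exact mem_centralizer_singleton_iff.2 (mem_centralizer_iff.1 hx' b hb)
          · exact mem_centralizer_singleton_iff.2 (mem_centralizer_iff.1 ha.2 x hx).symm
        exact mem_centralizer_iff.2 fun b hb => mem_centralizer_singleton_iff.1 (h5 hb)
      have h5 : Nat.card B * Nat.card ↥(X ⊓ centralizer (B : Set G)) ≤
          Nat.card Y * Nat.card ↥(X ⊓ centralizer (Y : Set G)) :=
        Nat.mul_le_mul (Subgroup.card_le_of_le le_sup_left) (Subgroup.card_le_of_le h4)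
      omega
    · subst hB
      set B : Subgroup G := A ⊓ centralizer ((⁅U, A⁆ : Subgroup G) : Set G) with hB
      refine ⟨B, ⟨hBA.trans hA.1, hA.2.1.to_le hBA, ?_⟩, le_rfl, le_sup_left, ?_⟩
      · refine ⟨NO1.BestOff.ElemM.mono hA.2.2.toElemM hBA, fun Y hY hYc => ?_⟩
        rw [← h2]
        refine hA.2.2.max Y (hY.trans hBA) (le_trans (le_inf ?_ inf_le_right) hYc)
        exact inf_le_inf_left _ (centralizer_le hcX)
      · apply le_antisymm
        · rintro x ⟨hx, hx'⟩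
          have h3 : x ∈ ⁅U, A⁆ ⊔ (X ⊓ centralizer (A : Set G)) := by
            rw [← h1]
            exact ⟨hΛX hx, hx'⟩
          obtain ⟨u, hu, c, hc, rfl⟩ : ∃ u ∈ (⁅U, A⁆ : Subgroup G), ∃ c ∈ X ⊓ centralizer (A : Set G), u * c = x := by
            refine NO3b.CTwo.mem_sup_of_le_norm (fun u hu => ?_) h3
            refine centralizer_le_normalizer _ (mem_centralizer_iff.2 fun c hc => ?_)
            exact elab_comm hX c hc.1 u (hcX hu)
          refine mul_mem (mem_sup_left hu) (mem_sup_right ⟨?_, hc.2⟩)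
          have := mul_mem (inv_mem (hcΛ hu)) hx
          rwa [inv_mul_cancel_left] at this
        · refine le_inf (sup_le hcΛ inf_le_left) (sup_le ?_ (inf_le_right.trans (centralizer_le hBA)))
          intro x hx
          exact mem_centralizer_iff.2 fun b hb => (mem_centralizer_iff.1 hb.2 x hx).symm

end Cfsg.Agent.Omega.OM.Swap.Fam

end

section


/-!
# THEOREM SW over a family, STEP 2

`Two.false`.
-/

set_option autoImplicit false

namespace Cfsg.Agent.Omega.OM.Swap.Fam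

open Subgroup Cfsg Cfsg.Agent.ZN Cfsg.Agent.ZN.ChoiceBase Cfsg.Agent.ZN.ChoiceSit Cfsg.Agent.Omega.NoFF.Basic
  Cfsg.Agent.MinSimple.VModule Cfsg.Agent.Omega.OmThm
open Cfsg.Agent.Omega.OM.Swap hiding Two
open Cfsg.Agent.MinSimple.MinParabolic (IsMinPar)
open Cfsg.Agent.Omega.FFThm (ElemM)
open scoped Pointwise commutatorElement

universe u

variable {G : Type u} [Group G] {F T : Subgroup G} {𝓐 : Set (Subgroup G)}

/-- The situation of STEP 2. -/
structure Two (F T : Subgroup G) (𝓐 : Set (Subgroup G)) (U D : Subgroup G) (z : G) (E : Bool → Subgroup G) : Prop where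
  syl : Syl T F
  par : IsMinPar T F
  fam : Fm F (V U F) 𝓐
  nJ : ∃ A ∈ 𝓐, ¬ A ≤ o2 F
  TU : T ≤ normalizer (U : Set G)
  UO : U ≤ o2 F
  comm : ∀ x ∈ V U F, ∀ y ∈ V U F, x * y = y * x
  sq : ∀ x ∈ V U F, x * x = 1
  nU : ¬ F ≤ normalizer (U : Set G)
  loc : Loc (o2 F) U D z
  zF : ∀ f ∈ F, f * z = z * f
  Ecard : ∀ b, Nat.card (E b) = 4
  Ene : E true ≠ E false
  EU : ∀ b, ∃ f ∈ F, E b = U ⊓ cj f U
  cenA : ∀ A ∈ 𝓐, A ≤ o2 F → ∀ a ∈ A, ∀ u ∈ U, a * u = u * a
  non : ∃ c ∈ (⁅V U F, o2 F⁆ : Subgroup G), ∃ x ∈ oddGen F, c * x ≠ x * c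

namespace Two

variable {U D : Subgroup G} {z : G} {E : Bool → Subgroup G}

theorem xd [Finite G] (h : Two F T 𝓐 U D z E) : XD T F U where
  S2 := h.syl.2.1
  SX := h.syl.1
  gen := (Dich.oddGen_sup_syl h.syl).ge
  QS := o2_le_syl h.syl
  SU := h.TU
  comm := h.comm
  sq := h.sq
  nU := h.nU

theorem cjU_le {g : G} (hg : g ∈ F) : cj g U ≤ V U F := Z_le_V hg

theorem loc' [Finite G] (h : Two F T 𝓐 U D z E) {g : G} (hg : g ∈ F) : Loc (o2 F) (cj g U) (cj g D) z :=
  h.loc.conj (cj_o2_self hg) (h.zF g hg)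

theorem F_le (_ : Two F T 𝓐 U D z E) : F ≤ normalizer (V U F : Set G) := XD.X_le_normalizer_W

theorem V_le_O (h : Two F T 𝓐 U D z E) : V U F ≤ o2 F := V_le fun p hp => by
  have h1 : cj p U ≤ cj p (o2 F) := cj_mono p h.UO
  rw [cj_o2_self hp] at h1
  exact h1

theorem V_le_F (h : Two F T 𝓐 U D z E) : V U F ≤ F := h.V_le_O.trans (ChoiceSit.o2_le F)

theorem isElab (h : Two F T 𝓐 U D z E) : IsElementaryAbelian 2 (V U F) := elab_of h.comm h.sq

theorem cenA' (h : Two F T 𝓐 U D z E) {A : Subgroup G} (hA : A ∈ 𝓐) (hAO : A ≤ o2 F) :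
    A ≤ centralizer (V U F : Set G) := by
  rw [le_centralizer_iff]
  refine V_le fun p hp => ?_
  intro x hx
  rw [mem_centralizer_iff]
  intro a ha
  have h1 : cj p⁻¹ A ≤ o2 F := by
    have := cj_mono p⁻¹ hAO
    rwa [cj_o2_self (inv_mem hp)] at this
  have h2 := h.cenA _ (h.fam.conj _ (inv_mem hp) A hA) h1 (p⁻¹ * a * p)
    (by rw [mem_cj]; have : p⁻¹⁻¹ * (p⁻¹ * a * p) * p⁻¹ = a := by group
        rwa [this]) (p⁻¹ * x * p) (mem_cj.1 hx)
  have h3 := congrArg (fun t => p * t * p⁻¹) h2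
  simpa [mul_assoc] using h3

/-- The subgroup of all `x ∈ Λ` with `[x, c] ∈ ⟨z⟩`. -/
def NN (h : Two F T 𝓐 U D z E) {c : G} (hc : c ∈ o2 F) : Subgroup G where
  carrier := {x | x ∈ V U F ∧ (x * (c * x * c⁻¹) = 1 ∨ x * (c * x * c⁻¹) = z)}
  one_mem' := ⟨one_mem _, Or.inl (by simp)⟩
  mul_mem' := by
    rintro x y ⟨hx, hx'⟩ ⟨hy, hy'⟩
    refine ⟨mul_mem hx hy, ?_⟩
    have hcx : c * x * c⁻¹ ∈ V U F := (mem_normalizer_iff.1 (h.F_le (ChoiceSit.o2_le F hc)) x).1 hx
    have e1 : x * y * (c * (x * y) * c⁻¹) = (x * (c * x * c⁻¹)) * (y * (c * y * c⁻¹)) := by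
      have h1 := h.comm y hy _ hcx
      calc x * y * (c * (x * y) * c⁻¹) = x * (y * (c * x * c⁻¹)) * (c * y * c⁻¹) := by group
        _ = x * ((c * x * c⁻¹) * y) * (c * y * c⁻¹) := by rw [h1]
        _ = _ := by group
    have hzz : z * z = 1 := h.loc.sq z h.loc.zU
    rw [e1]
    rcases hx' with hx' | hx' <;> rcases hy' with hy' | hy' <;> rw [hx', hy'] <;> simp [hzz]
  inv_mem' := by
    rintro x ⟨hx, hx'⟩
    have : x⁻¹ = x := inv_eq_of_mul_eq_one_left (h.sq x hx)
    rw [this]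
    exact ⟨hx, hx'⟩

theorem mem_NN (h : Two F T 𝓐 U D z E) {c : G} (hc : c ∈ o2 F) {x : G} :
    x ∈ h.NN hc ↔ x ∈ V U F ∧ (x * (c * x * c⁻¹) = 1 ∨ x * (c * x * c⁻¹) = z) := Iff.rfl

theorem comm_eq [Finite G] (h : Two F T 𝓐 U D z E) {x o : G} (hx : x ∈ V U F) (ho : o ∈ o2 F) :
    ⁅x, o⁆ = x * (o * x * o⁻¹) := by
  have : x⁻¹ = x := inv_eq_of_mul_eq_one_left (h.sq x hx)
  rw [commutatorElement_def, this]
  group

theorem le_NN [Finite G] (h : Two F T 𝓐 U D z E) {c : G} (hc : c ∈ o2 F) : (⁅V U F, o2 F⁆ : Subgroup G) ≤ h.NN hc := by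
  rw [commutator_le]
  intro x hx o ho
  -- the subgroup of the `x ∈ Λ` with `[x, o] ∈ NN c`
  let L : Subgroup G :=
    { carrier := {x | x ∈ V U F ∧ x * (o * x * o⁻¹) ∈ h.NN hc}
      one_mem' := ⟨one_mem _, by
        have : (1 : G) * (o * 1 * o⁻¹) = 1 := by group
        rw [this]
        exact one_mem _⟩
      mul_mem' := by
        rintro x y ⟨hx, hx'⟩ ⟨hy, hy'⟩
        refine ⟨mul_mem hx hy, ?_⟩
        have hcx : o * x * o⁻¹ ∈ V U F := (mem_normalizer_iff.1 (h.F_le (ChoiceSit.o2_le F ho)) x).1 hx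
        have e1 : x * y * (o * (x * y) * o⁻¹) = (x * (o * x * o⁻¹)) * (y * (o * y * o⁻¹)) := by
          have h1 := h.comm y hy _ hcx
          calc x * y * (o * (x * y) * o⁻¹) = x * (y * (o * x * o⁻¹)) * (o * y * o⁻¹) := by group
            _ = x * ((o * x * o⁻¹) * y) * (o * y * o⁻¹) := by rw [h1]
            _ = _ := by group
        rw [e1]
        exact mul_mem hx' hy'
      inv_mem' := by
        rintro x ⟨hx, hx'⟩
        have : x⁻¹ = x := inv_eq_of_mul_eq_one_left (h.sq x hx)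
        rw [this]
        exact ⟨hx, hx'⟩ }
  have hL : V U F ≤ L := V_le fun g hg y hy => by
    have hy' : y ∈ cj g U := hy
    have h1 := (h.loc' hg).s1 o ho y hy'
    have h2 : y * (o * y * o⁻¹) ∈ h.NN hc :=
      ⟨cjU_le hg ((h.loc' hg).DU h1), (h.loc' hg).s2 c hc _ h1⟩
    exact ⟨cjU_le hg hy', h2⟩
  rw [h.comm_eq hx ho]
  exact (hL hx).2

/-- The step of the chain. `B` centralises all `[x, b]`, `x ∈ Λ`, `b ∈ B`. -/
theorem step [Finite G] (h : Two F T 𝓐 U D z E) {B : Subgroup G} (hB : B ≤ o2 F)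
    (hq : ∀ x ∈ V U F, ∀ b ∈ B, ∀ b' ∈ B, b' * (x * (b * x * b⁻¹)) = x * (b * x * b⁻¹) * b')
    (hn : ¬ B ≤ centralizer (V U F : Set G)) :
    ∃ B' : Subgroup G, B' < B ∧ B ⊓ centralizer (V U F : Set G) ≤ B' ∧ B'.relIndex B ≤ 2 ∧
      4 * (⁅V U F, o2 F⁆ ⊔ (V U F ⊓ centralizer (B' : Set G))).relIndex (V U F) ≤
        (⁅V U F, o2 F⁆ ⊔ (V U F ⊓ centralizer (B : Set G))).relIndex (V U F) := by
  classical
  -- a moved conjugate
  obtain ⟨g, hg, c, hcB, hm⟩ : ∃ g ∈ F, ∃ c ∈ B, ∃ u ∈ cj g U, c * u ≠ u * c := by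
    by_contra hcon
    push Not at hcon
    apply hn
    rw [le_centralizer_iff]
    exact V_le fun g hg x hx => mem_centralizer_iff.2 fun c hc => hcon g hg c hc x hx
  have hc := hB hcB
  have L := h.loc' hg
  set B' : Subgroup G := B ⊓ centralizer ((cj g U : Subgroup G) : Set G) with hB'
  have hVc : centralizer (V U F : Set G) ≤ centralizer ((cj g U : Subgroup G) : Set G) :=
    centralizer_le (cjU_le hg)
  have hcB' : c ∉ B' := by
    intro h1
    obtain ⟨u, hu, hne⟩ := hm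
    exact hne (mem_centralizer_iff.1 h1.2 u hu).symm
  have hlt : B' < B := lt_of_le_of_ne inf_le_left fun h1 => hcB' (h1 ▸ hcB)
  refine ⟨B', hlt, inf_le_inf_left _ hVc, ?_, ?_⟩
  · -- index ≤ 2
    refine Nat.le_of_dvd (by norm_num) (relIndex_dvd_two_iff.2 ⟨c⁻¹, inv_mem hcB, fun b hb => ?_⟩)
    by_cases hbB : b ∈ B'
    · exact Or.inr hbB
    left
    have hbm : ∃ u ∈ cj g U, b * u ≠ u * b := by
      by_contra hcon
      push Not at hcon
      exact hbB ⟨hb, mem_centralizer_iff.2 fun u hu => (hcon u hu).symm⟩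
    have h1 := (L.same hc (hB hb) hm hbm fun u hu => hq u (cjU_le hg hu) c hcB b hb).2
    refine mem_inf.2 ⟨mul_mem hb (inv_mem hcB), mem_centralizer_iff.2 fun u hu => ?_⟩
    -- `b c⁻¹ u c b⁻¹ = u`
    have hu' : c⁻¹ * u * c ∈ cj g U := by
      have := L.nor c⁻¹ (inv_mem hc) u hu
      rwa [inv_inv] at this
    have h2 := h1 _ hu'
    have h3 : c * (c⁻¹ * u * c) * c⁻¹ = u := by group
    rw [h3] at h2
    -- `u = b c⁻¹ u c b⁻¹`
    calc u * (b * c⁻¹) = (b * (c⁻¹ * u * c) * b⁻¹) * (b * c⁻¹) := by rw [← h2]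
      _ = b * c⁻¹ * u := by group
  · -- the two vectors
    obtain ⟨b, hb⟩ : ∃ b, cj g (E b) ≠ ce (cj g U) c := by
      by_contra hcon
      push Not at hcon
      have h1 := (hcon true).trans (hcon false).symm
      have h2 := congrArg (cj g⁻¹) h1
      rw [cj_inv_cj, cj_inv_cj] at h2
      exact h.Ene h2
    obtain ⟨f, hf, hEf⟩ := h.EU b
    set Es : Subgroup G := cj g (E b) with hEs
    have hEs' : Es = cj g U ⊓ cj (g * f) U := by
      rw [hEs, hEf, cj_inf, cj_cj]
    have hEsc : Nat.card Es = 4 := by rw [hEs, card_cj, h.Ecard]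
    have hgf : g * f ∈ F := mul_mem hg hf
    have L' := h.loc' hgf
    -- `c` does not centralise `Es`
    have hcE : ¬ ∀ x ∈ Es, c * x = x * c := by
      intro h1
      apply hb
      apply eq_of_le_of_card_ge
      · intro x hx
        exact mem_ce.2 ⟨by rw [hEs'] at hx; exact hx.1, h1 x hx⟩
      · rw [L.c4 c hc hm, hEsc]
    have hm' : ∃ u ∈ cj (g * f) U, c * u ≠ u * c := by
      by_contra hcon
      push Not at hcon
      exact hcE fun x hx => hcon x (by rw [hEs'] at hx; exact hx.2)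
    -- `B'` centralises the second conjugate
    have hB'c : ∀ d ∈ B', ∀ u ∈ cj (g * f) U, d * u = u * d := by
      intro d hd
      by_contra hcon
      push Not at hcon
      have hd4 := L'.c4 d (hB hd.1) hcon
      have h1 : Es ≤ ce (cj (g * f) U) d := by
        intro x hx
        rw [hEs'] at hx
        exact mem_ce.2 ⟨hx.2, (mem_centralizer_iff.1 hd.2 x hx.1).symm⟩
      have h2 : Es = ce (cj (g * f) U) d := eq_of_le_of_card_ge h1 (by rw [hd4, hEsc])
      have h3 := (L'.same hc (hB hd.1) hm' hcon fun u hu => hq u (cjU_le hgf hu) c hcB d hd.1).1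
      apply hcE
      intro x hx
      rw [h2, ← h3] at hx
      exact (mem_ce.1 hx).2
    obtain ⟨v, hv, hvD⟩ := L.Dne
    obtain ⟨w, hw, hwD⟩ := L'.Dne
    obtain ⟨v1, v2⟩ := L.s3 c hc hm v hv hvD
    obtain ⟨w1, w2⟩ := L'.s3 c hc hm' w hw hwD
    have hvV := cjU_le hg hv
    have hwV := cjU_le hgf hw
    have hcent : ∀ x ∈ V U F, (∀ d ∈ B', d * x = x * d) →
        x ∈ ⁅V U F, o2 F⁆ ⊔ (V U F ⊓ centralizer (B' : Set G)) := fun x hx hd =>
      mem_sup_right ⟨hx, mem_centralizer_iff.2 fun d hd' => hd d hd'⟩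
    set X : Subgroup G := ⁅V U F, o2 F⁆ ⊔ (V U F ⊓ centralizer (B' : Set G)) with hX
    set N : Subgroup G := ⁅V U F, o2 F⁆ ⊔ (V U F ⊓ centralizer (B : Set G)) with hN
    have hNN : N ≤ h.NN hc := by
      refine sup_le (h.le_NN hc) ?_
      rintro x ⟨hx, hx'⟩
      refine ⟨hx, Or.inl ?_⟩
      rw [mem_centralizer_iff.1 hx' c hcB, mul_inv_cancel_right]
      exact h.sq x hx
    have hXV : X ≤ V U F := sup_le (XD.comm_le_W h.xd) inf_le_left
    have hNX : N ≤ X := sup_le_sup_left (inf_le_inf_left _ (centralizer_le hlt.le)) _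
    have hX2 : IsPGroup 2 X := isPGroup_of_elab (elab_mono h.isElab hXV)
    have hvw : v * w ∉ h.NN hc := by
      rintro ⟨-, h1⟩
      have hcv : c * v * c⁻¹ ∈ V U F := cjU_le hg (L.nor c hc v hv)
      have e1 : v * w * (c * (v * w) * c⁻¹) = (v * (c * v * c⁻¹)) * (w * (c * w * c⁻¹)) := by
        have h2 := h.comm w hwV _ hcv
        calc v * w * (c * (v * w) * c⁻¹) = v * (w * (c * v * c⁻¹)) * (c * w * c⁻¹) := by group
          _ = v * ((c * v * c⁻¹) * w) * (c * w * c⁻¹) := by rw [h2]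
          _ = _ := by group
      rw [e1] at h1
      set p := v * (c * v * c⁻¹) with hp
      set q := w * (c * w * c⁻¹) with hq'
      have hpU : p ∈ cj g U := mul_mem hv (L.nor c hc v hv)
      have hqU : q ∈ cj (g * f) U := mul_mem hw (L'.nor c hc w hw)
      have hpU' : p ∈ cj (g * f) U := by
        have hqi : q * q = 1 := L'.sq q hqU
        rcases h1 with h1 | h1
        · have : p = q := by
            calc p = p * q * q := by rw [mul_assoc, hqi, mul_one]
              _ = q := by rw [h1, one_mul]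
          rw [this]
          exact hqU
        · have : p = z * q := by
            calc p = p * q * q := by rw [mul_assoc, hqi, mul_one]
              _ = z * q := by rw [h1]
          rw [this]
          exact mul_mem L'.zU hqU
      have hpE : p ∈ Es ⊓ centralizer ({c} : Set G) := by
        refine ⟨by rw [hEs']; exact ⟨hpU, hpU'⟩, ?_⟩
        have h2 := L.c5 c hc v hv
        rw [← hp, mul_inv_eq_iff_eq_mul] at h2
        exact mem_centralizer_singleton_iff.2 h2.symm
      have hzE : z ∈ Es ⊓ centralizer ({c} : Set G) := by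
        refine ⟨by rw [hEs']; exact ⟨L.zU, L'.zU⟩, ?_⟩
        exact mem_centralizer_singleton_iff.2 (h.zF c (ChoiceSit.o2_le F hc)).symm
      -- order at least 3, hence 4
      have h4 : Es ⊓ centralizer ({c} : Set G) = Es := by
        apply eq_of_le_of_card_ge inf_le_left
        rw [hEsc]
        have hdvd : Nat.card ↥(Es ⊓ centralizer ({c} : Set G)) ∣ 4 := by
          rw [← hEsc]
          exact card_dvd_of_le inf_le_left
        have h3 : 2 < Nat.card ↥(Es ⊓ centralizer ({c} : Set G)) := by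
          change 2 < Nat.card ((Es ⊓ centralizer ({c} : Set G) : Subgroup G) : Set G)
          rw [Nat.card_coe_set_eq, Set.two_lt_ncard_iff]
          exact ⟨1, p, z, one_mem _, hpE, hzE, fun h => v1 h.symm, fun h => L.z1 h.symm, v2⟩
        have h5 : Nat.card ↥(Es ⊓ centralizer ({c} : Set G)) ≤ 4 := Nat.le_of_dvd (by norm_num) hdvd
        by_contra h6
        have h7 : Nat.card ↥(Es ⊓ centralizer ({c} : Set G)) = 3 := by omega
        rw [h7] at hdvd
        norm_num at hdvd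
      apply hcE
      intro x hx
      rw [← h4] at hx
      exact (mem_centralizer_singleton_iff.1 hx.2).symm
    have h4 : 4 ≤ N.relIndex X := by
      refine four_le hX2 (hcent v hvV fun d hd => (mem_centralizer_iff.1 hd.2 v hv).symm)
        (hcent w hwV fun d hd => hB'c d hd w hw) (fun h1 => ?_) (fun h1 => ?_) (fun h1 => hvw (hNN h1))
      · rcases (hNN h1).2 with h2 | h2
        · exact v1 h2
        · exact v2 h2
      · rcases (hNN h1).2 with h2 | h2
        · exact w1 h2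
        · exact w2 h2
    rw [← relIndex_mul_relIndex N X (V U F) hNX hXV]
    exact Nat.mul_le_mul_right _ h4

theorem pos_relIndex [Finite G] (A B : Subgroup G) : 0 < A.relIndex B :=
  Nat.pos_of_ne_zero (relIndex_ne _ _)

/-- The chain. -/
theorem chain [Finite G] (h : Two F T 𝓐 U D z E) (B : Subgroup G) (hB : B ≤ o2 F)
    (hq : ∀ x ∈ V U F, ∀ b ∈ B, ∀ b' ∈ B, b' * (x * (b * x * b⁻¹)) = x * (b * x * b⁻¹) * b') :
    (centralizer (V U F : Set G)).relIndex B * (centralizer (V U F : Set G)).relIndex B ≤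
      (⁅V U F, o2 F⁆ ⊔ (V U F ⊓ centralizer (B : Set G))).relIndex (V U F) := by
  induction hn : Nat.card B using Nat.strong_induction_on generalizing B with
  | _ n IH =>
    by_cases h1 : B ≤ centralizer (V U F : Set G)
    · rw [relIndex_eq_one.2 h1]
      exact pos_relIndex _ _
    obtain ⟨B', hlt, h2, h3, h4⟩ := h.step hB hq h1
    have hcard : Nat.card B' < n := by
      rw [← hn]
      refine lt_of_le_of_ne (Subgroup.card_le_of_le hlt.le) fun h5 => ?_
      exact hlt.ne (eq_of_le_of_card_ge hlt.le h5.ge)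
    have h5 := IH _ hcard B' (hlt.le.trans hB) (fun x hx b hb b' hb' => hq x hx b (hlt.le hb) b' (hlt.le hb')) rfl
    have h6 : (centralizer (V U F : Set G)).relIndex B ≤ 2 * (centralizer (V U F : Set G)).relIndex B' := by
      have h7 : (centralizer (V U F : Set G)).relIndex B =
          (centralizer (V U F : Set G)).relIndex B' * B'.relIndex B := by
        rw [← inf_relIndex_right (centralizer (V U F : Set G)) B, ← relIndex_mul_relIndex _ B' B (by
          rw [inf_comm]; exact h2) hlt.le]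
        congr 1
        rw [← inf_relIndex_right (centralizer (V U F : Set G)) B']
        rw [← inf_relIndex_right (centralizer (V U F : Set G) ⊓ B) B', inf_assoc, inf_eq_right.2 hlt.le]
      rw [h7, mul_comm]
      exact Nat.mul_le_mul_right _ h3
    calc _ ≤ (2 * (centralizer (V U F : Set G)).relIndex B') * (2 * (centralizer (V U F : Set G)).relIndex B') :=
          Nat.mul_le_mul h6 h6
      _ = 4 * ((centralizer (V U F : Set G)).relIndex B' * (centralizer (V U F : Set G)).relIndex B') := by ring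
      _ ≤ 4 * _ := Nat.mul_le_mul_left _ h5
      _ ≤ _ := h4

/-- A quadratic member outside `O`. -/
theorem exists_quad [Finite G] (h : Two F T 𝓐 U D z E) : ∃ A ∈ 𝓐, ¬ A ≤ o2 F ∧
    ⁅V U F, A⁆ ≤ centralizer (A : Set G) := by
  classical
  obtain ⟨A₀, hA₀, hA₀'⟩ := h.nJ
  obtain ⟨A, ⟨hA, hAO⟩, hmax⟩ := Set.exists_max_image {A : Subgroup G | A ∈ 𝓐 ∧ ¬ A ≤ o2 F}
    (fun A => Nat.card ↥(V U F ⊓ centralizer (A : Set G))) (Set.toFinite _) ⟨A₀, hA₀, hA₀'⟩
  refine ⟨A, hA, hAO, ?_⟩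
  by_contra hcon
  obtain ⟨B', hB', h1, -, h2⟩ := h.fam.exists_rep h.isElab hA (U := V U F) le_rfl
  have h3 : B' ≤ o2 F := by
    by_contra h4
    exact absurd (hmax B' ⟨hB', h4⟩) (not_le.2 (h2 hcon))
  have h4 := h.cenA' hB' h3
  have h5 : V U F ≤ centralizer (A : Set G) := h.fam.cent h.isElab hA le_rfl fun b hb u hu =>
    (mem_centralizer_iff.1 (h4 (h1 hb)) u hu).symm
  apply hcon
  have h6 : ⁅V U F, A⁆ = ⊥ := by
    rw [commutator_eq_bot_iff_le_centralizer]
    exact h5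
  rw [h6]
  exact bot_le

/-- **STEP 2.** -/
theorem false [Finite G] (h : Two F T 𝓐 U D z E) : False := by
  obtain ⟨A, hA, hAO, hquad⟩ := h.exists_quad
  have hno : NoOvM F (V U F) := noOvM h.syl h.par h.comm h.sq
  have hAp := h.fam.two A hA
  have hAM := h.fam.elem A hA
  have hAF : A ≤ F := h.fam.le A hA
  set Λ := V U F with hΛ
  set a := (o2 F).relIndex A with ha
  set b := (centralizer (Λ : Set G)).relIndex (o2 F ⊓ A : Subgroup G) with hb
  -- upper bound
  have up : (centralizer (A : Set G)).relIndex Λ ≤ b * a := by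
    refine (h.fam.off A hA _ le_rfl).trans ?_
    have h1 : (centralizer (Λ : Set G)).relIndex A ≤ (centralizer (Λ : Set G) ⊓ (o2 F ⊓ A)).relIndex A :=
      relIndex_le_of_le_left inf_le_left (relIndex_ne _ _)
    refine h1.trans ?_
    rw [← relIndex_mul_relIndex _ (o2 F ⊓ A) A inf_le_right inf_le_right, inf_relIndex_right, inf_relIndex_right]
  -- the square
  have lo1 : a * a ≤ (centralizer (A : Set G)).relIndex Λ := h.xd.sq_leM hno h.non hAF hAp hAM
  -- the chain
  have hq : ∀ x ∈ Λ, ∀ b ∈ o2 F ⊓ A, ∀ b' ∈ o2 F ⊓ A, b' * (x * (b * x * b⁻¹)) = x * (b * x * b⁻¹) * b' := by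
    intro x hx b hb b' hb'
    have h1 : ⁅x, b⁆ ∈ centralizer (A : Set G) := hquad (commutator_mem_commutator hx hb.2)
    rw [h.comm_eq hx hb.1] at h1
    exact mem_centralizer_iff.1 h1 b' hb'.2
  have ch := h.chain (o2 F ⊓ A) inf_le_left hq
  set N : Subgroup G := ⁅Λ, o2 F⁆ with hN
  have hNΛ : N ≤ Λ := XD.comm_le_W h.xd
  set C : Subgroup G := centralizer (A : Set G) ⊓ Λ with hC
  have hCΛ : C ≤ Λ := inf_le_right
  have e2 : a ≤ C.relIndex N := by
    have h3 : C.relIndex N = (C ⊓ N).relIndex N := (inf_relIndex_right ..).symm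
    rw [h3]
    refine hno ⊥ N (C ⊓ N) A bot_le inf_le_right hNΛ (fun x _ => by
        rw [mem_normalizer_iff]; intro y; simp [mem_bot]) XD.X_le_normalizer_comm ?_ hAF hAp hAM ?_
    · obtain ⟨c, hc, x, hx, hne⟩ := h.non
      refine ⟨c, hc, x, hx, fun h4 => hne ?_⟩
      rw [mem_bot, mul_inv_eq_one, mul_inv_eq_iff_eq_mul] at h4
      exact h4
    · intro b hb e he
      rw [mem_bot]
      have := mem_centralizer_iff.1 hb.1.1 e he
      rw [← this]; group
  have e3 : C.relIndex Λ = C.relIndex (C ⊔ N) * (C ⊔ N).relIndex Λ :=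
    (relIndex_mul_relIndex C (C ⊔ N) Λ le_sup_left (sup_le hCΛ hNΛ)).symm
  have e4 : C.relIndex N ≤ C.relIndex (C ⊔ N) := relIndex_le_of_le_right le_sup_right (relIndex_ne _ _)
  have e5 : (centralizer (A : Set G)).relIndex Λ = C.relIndex Λ := (inf_relIndex_right ..).symm
  have e6 : (N ⊔ (Λ ⊓ centralizer ((o2 F ⊓ A : Subgroup G) : Set G))).relIndex Λ ≤ (C ⊔ N).relIndex Λ := by
    refine relIndex_le_of_le_left (sup_le ?_ le_sup_left) (relIndex_ne _ _)
    refine le_sup_of_le_right (le_inf hCΛ (inf_le_left.trans (centralizer_le inf_le_right)))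
  have lo2 : a * (b * b) ≤ (centralizer (A : Set G)).relIndex Λ := by
    rw [e5, e3]
    exact Nat.mul_le_mul (e2.trans e4) (ch.trans e6)
  have ap : 0 < a := pos_relIndex _ _
  have bp : 0 < b := pos_relIndex _ _
  have hb1 : b = 1 := by
    by_contra hb1
    have : 2 ≤ b := by omega
    have h1 := lo2.trans up
    have h2 : a * b * 2 ≤ a * b * 1 := by
      calc a * b * 2 ≤ a * b * b := Nat.mul_le_mul_left _ this
        _ = a * (b * b) := by ring
        _ ≤ b * a := h1
        _ = a * b * 1 := by ring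
    have h3 := Nat.le_of_mul_le_mul_left h2 (Nat.mul_pos ap bp)
    omega
  have ha1 : a = 1 := by
    have h1 := lo1.trans up
    rw [hb1, one_mul] at h1
    have h2 : a ≤ 1 := Nat.le_of_mul_le_mul_left (h1.trans (by omega)) ap
    omega
  exact hAO (relIndex_eq_one.1 ha1)

end Two

end Cfsg.Agent.Omega.OM.Swap.Fam

end
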